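import Mathlib

/-!
# Locally nilpotent derivations with a slice
-/

set_option autoImplicit false
universe u

open Polynomial

namespace Groth.Slice

variable {A : Type u} [CommRing A] [Algebra ℚ A] {D : Derivation ℚ A A}
  (hnil : ∀ x : A, ∃ n : ℕ, ((D : A →ₗ[ℚ] A) ^ n) x = 0) {I : Ideal A}

variable (I) in
/-- The Taylor polynomial along the derivation, modulo `I`. -/
noncomputable def chiN (D : Derivation ℚ A A) (N : ℕ) (x : A) : Polynomial (A ⧸ I) :=
  ∑ n ∈ Finset.range N,
    ((n.factorial : ℚ)⁻¹ • C (Ideal.Quotient.mk I (((D : A →ₗ[ℚ] A) ^ n) x))) * X ^ n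

theorem pow_eq_zero_of_le {x : A} {N n : ℕ} (h : ((D : A →ₗ[ℚ] A) ^ N) x = 0) (hn : N ≤ n) :
    ((D : A →ₗ[ℚ] A) ^ n) x = 0 := by
  obtain ⟨m, rfl⟩ := Nat.exists_eq_add_of_le' hn
  rw [pow_add, Module.End.mul_apply, h, map_zero]

theorem pow_succ_apply' (n : ℕ) (x : A) : ((D : A →ₗ[ℚ] A) ^ (n + 1)) x = ((D : A →ₗ[ℚ] A) ^ n) (D x) := by
  rw [pow_succ, Module.End.mul_apply]; rfl

theorem chiN_coeff {x : A} {N : ℕ} (h : ((D : A →ₗ[ℚ] A) ^ N) x = 0) (n : ℕ) :
    (chiN I D N x).coeff n = (n.factorial : ℚ)⁻¹ • Ideal.Quotient.mk I (((D : A →ₗ[ℚ] A) ^ n) x) := by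
  rw [chiN, finset_sum_coeff]
  simp only [coeff_mul_X_pow', coeff_smul, coeff_C]
  rcases lt_or_ge n N with hn | hn
  · rw [Finset.sum_eq_single n]
    · simp
    · intro b _ hb
      split_ifs with h1 h2
      · exact absurd (by omega : b = n) hb
      · exact smul_zero _
      · rfl
    · intro h'
      exact absurd (Finset.mem_range.2 hn) h'
  · rw [pow_eq_zero_of_le h hn, map_zero, smul_zero]
    refine Finset.sum_eq_zero fun b hb => ?_
    rw [Finset.mem_range] at hb
    rw [if_pos (by omega), if_neg (by omega), smul_zero]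

/-- Taylor expansion. -/
noncomputable def chi (x : A) : Polynomial (A ⧸ I) := chiN I D (hnil x).choose x

theorem chi_coeff (x : A) (n : ℕ) :
    (chi hnil (I := I) x).coeff n = (n.factorial : ℚ)⁻¹ • Ideal.Quotient.mk I (((D : A →ₗ[ℚ] A) ^ n) x) :=
  chiN_coeff (hnil x).choose_spec n

theorem chi_eq {x : A} {N : ℕ} (h : ((D : A →ₗ[ℚ] A) ^ N) x = 0) : chi hnil (I := I) x = chiN I D N x :=
  Polynomial.ext fun n => by rw [chi_coeff, chiN_coeff h]

theorem chi_add (x y : A) : chi hnil (I := I) (x + y) = chi hnil x + chi hnil y :=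
  Polynomial.ext fun n => by simp only [coeff_add, chi_coeff, map_add, smul_add]

theorem chi_coeff_zero (x : A) : (chi hnil (I := I) x).coeff 0 = Ideal.Quotient.mk I x := by
  simp [chi_coeff]

theorem chi_zero : chi hnil (I := I) 0 = 0 := Polynomial.ext fun n => by simp [chi_coeff]

theorem derivative_chi (x : A) : derivative (chi hnil (I := I) x) = chi hnil (D x) := by
  refine Polynomial.ext fun n => ?_
  rw [coeff_derivative, chi_coeff, chi_coeff, pow_succ_apply']
  rw [show ((n : A ⧸ I) + 1) = algebraMap ℚ (A ⧸ I) ((n : ℚ) + 1) by simp, mul_comm, ← Algebra.smul_def,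
    smul_smul]
  congr 1
  rw [Nat.factorial_succ]
  push_cast
  field_simp

theorem ext_derivative {p q : Polynomial (A ⧸ I)} (h0 : p.coeff 0 = q.coeff 0)
    (h1 : derivative p = derivative q) : p = q := by
  refine Polynomial.ext fun n => ?_
  cases n with
  | zero => exact h0
  | succ n =>
    have h := congrArg (fun r => Polynomial.coeff r n) h1
    simp only [coeff_derivative] at h
    have hu : IsUnit ((n : A ⧸ I) + 1) := by
      rw [show ((n : A ⧸ I) + 1) = algebraMap ℚ (A ⧸ I) ((n : ℚ) + 1) by simp]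
      exact (isUnit_iff_ne_zero.2 (by positivity)).map _
    exact hu.mul_left_injective h

theorem chi_mul : ∀ (s : ℕ) (x y : A) (m n : ℕ), ((D : A →ₗ[ℚ] A) ^ m) x = 0 → ((D : A →ₗ[ℚ] A) ^ n) y = 0 →
    m + n ≤ s → chi hnil (I := I) (x * y) = chi hnil x * chi hnil y := by
  intro s
  induction s with
  | zero =>
    intro x y m n hx _ h
    obtain rfl : m = 0 := by omega
    have : x = 0 := hx
    simp [this, chi_zero]
  | succ s ih =>
    intro x y m n hx hy h
    cases m with
    | zero =>
      have : x = 0 := hx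
      simp [this, chi_zero]
    | succ m =>
      cases n with
      | zero =>
        have : y = 0 := hy
        simp [this, chi_zero]
      | succ n =>
        refine ext_derivative (by rw [mul_coeff_zero, chi_coeff_zero, chi_coeff_zero, chi_coeff_zero, map_mul]) ?_
        rw [derivative_mul, derivative_chi, derivative_chi, derivative_chi, D.leibniz, smul_eq_mul, smul_eq_mul,
          chi_add, ih x (D y) (m + 1) n hx (by rw [← pow_succ_apply']; exact hy) (by omega),
          ih y (D x) (n + 1) m hy (by rw [← pow_succ_apply']; exact hx) (by omega)]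
        ring

/-- The Taylor expansion as a ring homomorphism. -/
noncomputable def chiHom : A →+* Polynomial (A ⧸ I) where
  toFun := chi hnil
  map_one' := by
    refine ext_derivative (by rw [chi_coeff_zero, map_one, coeff_one_zero]) ?_
    rw [derivative_chi, D.map_one_eq_zero, chi_zero, derivative_one]
  map_mul' x y := chi_mul hnil _ x y _ _ (hnil x).choose_spec (hnil y).choose_spec le_rfl
  map_zero' := chi_zero hnil
  map_add' := chi_add hnil

theorem chiHom_slice {a : A} (haI : a ∈ I) (ha : D a = 1) : chiHom hnil (I := I) a = X := by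
  refine ext_derivative ?_ ?_
  · show (chi hnil a).coeff 0 = _
    rw [chi_coeff_zero, coeff_X_zero, Ideal.Quotient.eq_zero_iff_mem.2 haI]
  · show derivative (chi hnil a) = _
    rw [derivative_chi, ha, derivative_X]
    exact (chiHom hnil (I := I)).map_one

theorem eq_zero_of_fixed {a : A} (ha : D a = 1) {y : A} (hy : y + a * D y = 0)
    (hnil : ∀ x : A, ∃ n : ℕ, ((D : A →ₗ[ℚ] A) ^ n) x = 0) : y = 0 := by
  have key : ∀ j : ℕ, ((j : A) + 1) * ((D : A →ₗ[ℚ] A) ^ j) y + a * ((D : A →ₗ[ℚ] A) ^ (j + 1)) y = 0 := by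
    intro j
    induction j with
    | zero => simpa using hy
    | succ j ih =>
      have h := congrArg D ih
      rw [map_add, D.leibniz, D.leibniz, ha, map_add, D.map_natCast, D.map_one_eq_zero, map_zero] at h
      have e : ∀ i, D (((D : A →ₗ[ℚ] A) ^ i) y) = ((D : A →ₗ[ℚ] A) ^ (i + 1)) y := fun i => by
        rw [pow_succ', Module.End.mul_apply]; rfl
      rw [e, e] at h
      simp only [smul_eq_mul, mul_zero, add_zero, mul_one] at h
      push_cast
      linear_combination h
  obtain ⟨N, hN⟩ := hnil y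
  have down : ∀ i, ((D : A →ₗ[ℚ] A) ^ (N - i)) y = 0 := by
    intro i
    induction i with
    | zero => exact hN
    | succ i ih =>
      rcases Nat.lt_or_ge i N with hi | hi
      · have h := key (N - (i + 1))
        rw [show N - (i + 1) + 1 = N - i by omega, ih, mul_zero, add_zero] at h
        have hu : IsUnit (((N - (i + 1) : ℕ) : A) + 1) := by
          rw [show (((N - (i + 1) : ℕ) : A) + 1) = algebraMap ℚ A (((N - (i + 1) : ℕ) : ℚ) + 1) by
            rw [map_add, map_natCast, map_one]]
          exact (isUnit_iff_ne_zero.2 (by positivity)).map _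
        exact hu.mul_right_eq_zero.1 h
      · rw [show N - (i + 1) = N - i by omega]; exact ih
  simpa using down N

theorem chiHom_injective {a : A} (ha : D a = 1) :
    Function.Injective (chiHom hnil (I := Ideal.span {a})) := by
  rw [injective_iff_map_eq_zero]
  suffices ∀ (N : ℕ) (x : A), ((D : A →ₗ[ℚ] A) ^ N) x = 0 → chi hnil (I := Ideal.span {a}) x = 0 → x = 0 from
    fun x hx => this _ x (hnil x).choose_spec hx
  intro N
  induction N with
  | zero => exact fun x hx _ => hx
  | succ N ih =>
    intro x hx hc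
    have hD : D x = 0 := ih (D x) (by rw [← pow_succ_apply']; exact hx) (by rw [← derivative_chi, hc, derivative_zero])
    have h0 : (chi hnil (I := Ideal.span {a}) x).coeff 0 = 0 := by rw [hc, coeff_zero]
    rw [chi_coeff_zero, Ideal.Quotient.eq_zero_iff_mem, Ideal.mem_span_singleton] at h0
    obtain ⟨y, rfl⟩ := h0
    rw [D.leibniz, ha, smul_eq_mul, smul_eq_mul, mul_one] at hD
    rw [eq_zero_of_fixed (y := y) ha (by linear_combination hD) hnil, mul_zero]

/-- The invariant representative of `x`. -/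
noncomputable def sec (D : Derivation ℚ A A) (a : A) (N : ℕ) (x : A) : A :=
  ∑ n ∈ Finset.range N, (((-1 : ℚ) ^ n * (n.factorial : ℚ)⁻¹) • ((((D : A →ₗ[ℚ] A) ^ n) x) * a ^ n))

theorem derivation_sec {a : A} (ha : D a = 1) (x : A) (N : ℕ) :
    D (sec D a (N + 1) x) = ((-1 : ℚ) ^ N * (N.factorial : ℚ)⁻¹) • ((((D : A →ₗ[ℚ] A) ^ (N + 1)) x) * a ^ N) := by
  induction N with
  | zero => simp [sec]
  | succ N ih =>
    rw [sec, Finset.sum_range_succ, map_add]
    change D (sec D a (N + 1) x) + _ = _
    rw [ih, D.map_smul, D.leibniz, D.leibniz_pow, ha]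
    have e : D (((D : A →ₗ[ℚ] A) ^ (N + 1)) x) = ((D : A →ₗ[ℚ] A) ^ (N + 1 + 1)) x := by
      conv_rhs => rw [pow_succ', Module.End.mul_apply]
      rfl
    rw [e]
    simp only [smul_eq_mul, nsmul_eq_mul, Nat.add_sub_cancel, mul_one, smul_add]
    have hc : ((-1 : ℚ) ^ (N + 1) * ((N + 1).factorial : ℚ)⁻¹) * ((N : ℚ) + 1) =
        -((-1 : ℚ) ^ N * (N.factorial : ℚ)⁻¹) := by
      rw [Nat.factorial_succ, pow_succ]
      push_cast
      field_simp
    have hc' := congrArg (algebraMap ℚ A) hc
    simp only [map_mul, map_neg, map_add, map_natCast, map_one] at hc'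
    generalize ((D : A →ₗ[ℚ] A) ^ (N + 1 + 1)) x = u
    generalize ((D : A →ₗ[ℚ] A) ^ (N + 1)) x = w
    rw [pow_succ a N]
    simp only [Algebra.smul_def, map_mul, Nat.cast_add, Nat.cast_one]
    linear_combination (w * a ^ N) * hc'

theorem chiHom_sec {a : A} (ha : D a = 1) {x : A} {N : ℕ} (hx : ((D : A →ₗ[ℚ] A) ^ N) x = 0) :
    chiHom hnil (I := Ideal.span {a}) (sec D a N x) = C (Ideal.Quotient.mk _ x) := by
  cases N with
  | zero =>
    have : x = 0 := hx
    simp [this, sec]
  | succ N =>
    refine ext_derivative ?_ ?_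
    · show (chi hnil (sec D a (N + 1) x)).coeff 0 = _
      rw [chi_coeff_zero, coeff_C_zero, Ideal.Quotient.eq, sec, Finset.sum_range_succ']
      simp only [pow_zero, Nat.factorial_zero, Nat.cast_one, inv_one, mul_one, one_smul, Module.End.one_apply,
        add_sub_cancel_right]
      refine Ideal.sum_mem _ fun n _ => ?_
      rw [Algebra.smul_def]
      exact Ideal.mul_mem_left _ _ (Ideal.mul_mem_left _ _
        (Ideal.pow_mem_of_mem _ (Ideal.mem_span_singleton_self a) _ (Nat.succ_pos n)))
    · show derivative (chi hnil (sec D a (N + 1) x)) = _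
      rw [derivative_chi, derivation_sec ha, hx, zero_mul, smul_zero, chi_zero, derivative_C]

theorem chiHom_surjective {a : A} (ha : D a = 1) :
    Function.Surjective (chiHom hnil (I := Ideal.span {a})) := by
  intro p
  induction p using Polynomial.induction_on' with
  | add p q hp hq =>
    obtain ⟨x, rfl⟩ := hp; obtain ⟨y, rfl⟩ := hq
    exact ⟨x + y, map_add _ _ _⟩
  | monomial n c =>
    obtain ⟨x, rfl⟩ := Ideal.Quotient.mk_surjective c
    refine ⟨sec D a (hnil x).choose x * a ^ n, ?_⟩
    rw [map_mul, map_pow, chiHom_sec hnil ha (hnil x).choose_spec,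
      chiHom_slice hnil (Ideal.mem_span_singleton_self a) ha, ← Polynomial.C_mul_X_pow_eq_monomial]

end Groth.Slice
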